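import Groth.Agent.S4784
import Groth.Agent.S4785
import Mathlib.AlgebraicGeometry.AffineTransitionLimit
import Mathlib.AlgebraicGeometry.Noetherian

/-!
# Cofiltered limits along affine open immersions: reduced and irreducible stages
-/

set_option autoImplicit false
set_option linter.style.haveILetI false
set_option backward.isDefEq.respectTransparency false
set_option backward.isDefEq.respectTransparency.types false

universe u

open CategoryTheory CategoryTheory.Limits AlgebraicGeometry TopologicalSpace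

namespace Groth.Agent.Lim17

/-- If the nilradical of the sections over every affine open is finitely generated, the locus of points
with reduced local ring is open. -/
theorem isOpen_reducedLocus (X : Scheme.{u}) (hN : ∀ U : X.affineOpens, (nilradical Γ(X, U)).FG) :
    IsOpen {z : X | _root_.IsReduced (X.presheaf.stalk z)} := by
  refine isOpen_iff_forall_mem_open.2 fun z hz => ?_
  obtain ⟨U, hU, hzU, -⟩ := exists_isAffineOpen_mem_and_subset (x := z) (U := ⊤) trivial
  letI := X.presheaf.algebra_section_stalk ⟨z, hzU⟩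
  haveI := hU.isLocalization_stalk ⟨z, hzU⟩
  haveI : _root_.IsReduced (X.presheaf.stalk z) := hz
  let p := (hU.primeIdealOf ⟨z, hzU⟩).asIdeal
  classical
  obtain ⟨G, hG⟩ := hN ⟨U, hU⟩
  have hkill : ∀ a ∈ G, ∃ r : p.primeCompl, (r : Γ(X, U)) * a = 0 := fun a ha => by
    have h1 : IsNilpotent a := mem_nilradical.1 (hG.le (Ideal.subset_span ha))
    exact (IsLocalization.map_eq_zero_iff p.primeCompl (X.presheaf.stalk z) a).1
      (h1.map (algebraMap Γ(X, U) (X.presheaf.stalk z))).eq_zero
  choose r hr using hkill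
  let R : p.primeCompl := ∏ a : G, r a.1 a.2
  have hR : ∀ b : Γ(X, U), IsNilpotent b → (R : Γ(X, U)) * b = 0 := by
    intro b hb
    have hb' : b ∈ Submodule.span Γ(X, U) (G : Set Γ(X, U)) := hG.ge (mem_nilradical.2 hb)
    clear hb
    induction hb' using Submodule.span_induction with
    | mem a ha =>
      obtain ⟨c, hc⟩ := Finset.dvd_prod_of_mem (fun a : G => r a.1 a.2) (Finset.mem_univ ⟨a, ha⟩)
      rw [show R = r a ha * c from hc, Submonoid.coe_mul, mul_right_comm, hr a ha, zero_mul]
    | zero => exact mul_zero _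
    | add a b ha hb iha ihb =>
      rw [mul_add, iha, ihb, add_zero]
    | smul c a ha iha =>
      rw [smul_eq_mul, mul_left_comm, iha, mul_zero]
  refine ⟨(X.basicOpen (R : Γ(X, U)) : Set X), fun z' hz' => ?_, (X.basicOpen _).2, ?_⟩
  · have hz'U : z' ∈ U := X.basicOpen_le _ hz'
    letI := X.presheaf.algebra_section_stalk ⟨z', hz'U⟩
    haveI := hU.isLocalization_stalk ⟨z', hz'U⟩
    let q := (hU.primeIdealOf ⟨z', hz'U⟩).asIdeal
    have hRu : IsUnit (algebraMap Γ(X, U) (X.presheaf.stalk z') R) := (X.mem_basicOpen _ z' hz'U).1 hz'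
    refine ⟨fun x hx => ?_⟩
    obtain ⟨⟨a, s⟩, hx'⟩ := IsLocalization.surj q.primeCompl x
    have ha : IsNilpotent (algebraMap Γ(X, U) (X.presheaf.stalk z') a) := by
      rw [← hx']; exact (Commute.all _ _).isNilpotent_mul_right hx
    obtain ⟨n, hn⟩ := ha
    rw [← map_pow] at hn
    obtain ⟨t, ht⟩ := (IsLocalization.map_eq_zero_iff q.primeCompl _ _).1 hn
    have h0 : (R : Γ(X, U)) * ((t : Γ(X, U)) * a) = 0 :=
      hR _ ⟨n + 1, by linear_combination ((t : Γ(X, U)) ^ n * a) * ht⟩
    have h1 : algebraMap Γ(X, U) (X.presheaf.stalk z') a = 0 := by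
      have := congrArg (algebraMap Γ(X, U) (X.presheaf.stalk z')) h0
      rw [map_mul, map_mul, map_zero] at this
      exact (IsLocalization.map_units _ t).mul_right_eq_zero.1 (hRu.mul_right_eq_zero.1 this)
    rw [h1] at hx'
    exact (IsLocalization.map_units _ s).mul_left_eq_zero.1 hx'
  · refine (X.mem_basicOpen _ z hzU).2 ?_
    exact IsLocalization.map_units (X.presheaf.stalk z) R

variable {I : Type u} [SmallCategory I] [IsCofiltered I] {D : I ⥤ Scheme.{u}} {c : Cone D}

/-- A stage whose image lies in a given open containing the image of the limit. -/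
theorem exists_range_subset (hc : IsLimit c) (haff : ∀ (i j : I) (f : i ⟶ j), IsAffineHom (D.map f)) {i : I}
    [CompactSpace (D.obj i)] (U : (D.obj i).Opens) (hU : Set.range (c.π.app i) ⊆ (U : Set (D.obj i))) :
    ∃ (j : I) (f : j ⟶ i), Set.range (D.map f) ⊆ (U : Set (D.obj i)) := by
  haveI : ∀ {i j : I} (f : i ⟶ j), IsAffineHom (D.map f) := fun f => haff _ _ f
  by_contra! H
  obtain ⟨s, hs⟩ := exists_mem_of_isClosed_of_nonempty' D c hc (fun j f ↦ ((D.map f ⁻¹ᵁ U : (D.obj j).Opens) : Set (D.obj j))ᶜ)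
    (fun j f ↦ (D.map f ⁻¹ᵁ U).2.isClosed_compl)
    (fun j f ↦ by
      obtain ⟨_, ⟨y, rfl⟩, hy⟩ := Set.not_subset.1 (H j f)
      exact ⟨y, hy⟩)
    (fun j f ↦ by
      haveI : CompactSpace (D.obj j) := QuasiCompact.compactSpace_of_compactSpace (D.map f)
      exact (D.map f ⁻¹ᵁ U).2.isClosed_compl.isCompact)
    (fun j k fkj fji x hx h => hx (show D.map (fkj ≫ fji) x ∈ U by rw [D.map_comp]; exact h))
  exact hs i (𝟙 i) (by
    show D.map (𝟙 i) (c.π.app i s) ∈ U
    rw [D.map_id]; exact hU ⟨s, rfl⟩)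

/-- A space with an inducing map into the closure of the image of one of its points is irreducible. -/
theorem irreducibleSpace_of_isInducing {A B : Type*} [TopologicalSpace A] [TopologicalSpace B] {f : A → B}
    (hf : Topology.IsInducing f) (p : A) (h : Set.range f ⊆ closure {f p}) : IrreducibleSpace A := by
  have h1 : closure ({p} : Set A) = Set.univ := by
    rw [hf.closure_eq_preimage_closure_image, Set.image_singleton]
    exact Set.eq_univ_of_forall fun a => h ⟨a, rfl⟩
  have h2 : IsIrreducible (Set.univ : Set A) := h1 ▸ isIrreducible_singleton.closure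
  exact (irreducibleSpace_def A).2 h2

/-- The image of the limit is stable under generalization. -/
theorem stableUnderGeneralization_range_π (hc : IsLimit c) (haff : ∀ (i j : I) (f : i ⟶ j), IsAffineHom (D.map f))
    (hoi : ∀ (i j : I) (φ : i ⟶ j), IsOpenImmersion (D.map φ)) (i : I) :
    StableUnderGeneralization (Set.range (c.π.app i)) := by
  haveI := haff
  rw [S4784.result D c hc i]
  intro x y hxy hx
  simp only [Set.mem_iInter] at hx ⊢
  intro j φ
  haveI := hoi j i φ
  exact hxy.mem_open (D.map φ).isOpenEmbedding.isOpen_range (hx j φ)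

/-- Reduced stages from a reduced limit. -/
theorem exists_isReduced (hc : IsLimit c) (haff : ∀ (i j : I) (f : i ⟶ j), IsAffineHom (D.map f))
    (hoi : ∀ (i j : I) (φ : i ⟶ j), IsOpenImmersion (D.map φ)) (i₀ : I) [CompactSpace (D.obj i₀)]
    (hN : ∀ U : (D.obj i₀).affineOpens, (nilradical Γ(D.obj i₀, U)).FG) [IsReduced c.pt] :
    ∃ (i : I) (_ : i ⟶ i₀), ∀ (j : I) (_ : j ⟶ i), IsReduced (D.obj j) := by
  haveI := haff
  obtain ⟨-, hst⟩ := S4785.result D c hc hoi i₀
  obtain ⟨i, φ, hi⟩ := exists_range_subset hc haff ⟨_, isOpen_reducedLocus _ hN⟩ (by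
    rintro _ ⟨s, rfl⟩
    haveI := hst s
    haveI : _root_.IsReduced ↑((((Functor.const I).obj c.pt).obj i₀).presheaf.stalk s) :=
      inferInstanceAs (_root_.IsReduced (c.pt.presheaf.stalk s))
    exact isReduced_of_injective ((c.π.app i₀).stalkMap s).hom
      (ConcreteCategory.bijective_of_isIso ((c.π.app i₀).stalkMap s)).1)
  refine ⟨i, φ, fun j g => ?_⟩
  haveI : ∀ z : D.obj j, _root_.IsReduced ((D.obj j).presheaf.stalk z) := fun z => by
    haveI := hoi j i₀ (g ≫ φ)
    haveI : _root_.IsReduced ((D.obj i₀).presheaf.stalk (D.map (g ≫ φ) z)) :=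
      hi (show D.map (g ≫ φ) z ∈ Set.range (D.map φ) from ⟨D.map g z, by rw [D.map_comp]; rfl⟩)
    exact isReduced_of_injective (inv ((D.map (g ≫ φ)).stalkMap z)).hom
      (ConcreteCategory.bijective_of_isIso (inv ((D.map (g ≫ φ)).stalkMap z))).1
  exact isReduced_of_isReduced_stalk _

/-- The limit is reduced if some stage is. -/
theorem isReduced_pt (hc : IsLimit c) (haff : ∀ (i j : I) (f : i ⟶ j), IsAffineHom (D.map f))
    (hoi : ∀ (i j : I) (φ : i ⟶ j), IsOpenImmersion (D.map φ)) (i : I) [IsReduced (D.obj i)] :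
    IsReduced c.pt := by
  haveI := haff
  obtain ⟨-, hst⟩ := S4785.result D c hc hoi i
  haveI : ∀ s : c.pt, _root_.IsReduced (c.pt.presheaf.stalk s) := fun s => by
    haveI := hst s
    exact isReduced_of_injective (inv ((c.π.app i).stalkMap s)).hom
      (ConcreteCategory.bijective_of_isIso (inv ((c.π.app i).stalkMap s))).1
  exact isReduced_of_isReduced_stalk _

/-- Irreducible stages from an irreducible limit. -/
theorem exists_irreducibleSpace (hc : IsLimit c) (haff : ∀ (i j : I) (f : i ⟶ j), IsAffineHom (D.map f))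
    (hoi : ∀ (i j : I) (φ : i ⟶ j), IsOpenImmersion (D.map φ)) (i₀ : I) [IsNoetherian (D.obj i₀)]
    [IrreducibleSpace c.pt] :
    ∃ (i : I) (_ : i ⟶ i₀), ∀ (j : I) (_ : j ⟶ i), IrreducibleSpace (D.obj j) := by
  haveI := haff
  let η := genericPoint c.pt
  let s := c.π.app i₀ η
  let C : Set (D.obj i₀) := ⋃₀ {A | A ∈ irreducibleComponents (D.obj i₀) ∧ A ≠ closure {s}}
  have hC : IsClosed C := by
    rw [show C = _ from Set.sUnion_eq_biUnion]
    exact (NoetherianSpace.finite_irreducibleComponents.subset fun A hA => hA.1).isClosed_biUnion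
      fun A hA => isClosed_of_mem_irreducibleComponents _ hA.1
  have hsp : ∀ z : c.pt, s ⤳ c.π.app i₀ z := fun z => (genericPoint_specializes z).map (c.π.app i₀).continuous
  have hd : Set.range (c.π.app i₀) ⊆ (⟨Cᶜ, hC.isOpen_compl⟩ : (D.obj i₀).Opens) := by
    rintro _ ⟨z, rfl⟩ ⟨A, ⟨hA, hne⟩, hzA⟩
    have hη := hA.1.isGenericPoint_genericPoint (isClosed_of_mem_irreducibleComponents _ hA)
    obtain ⟨w, hw⟩ := stableUnderGeneralization_range_π hc haff hoi i₀ (hη.specializes hzA) ⟨z, rfl⟩
    refine hne (le_antisymm ?_ (hA.2 isIrreducible_singleton.closure ?_))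
    all_goals
      rw [← hη.def, ← hw]
      exact (specializes_iff_closure_subset.1 (hsp w))
  obtain ⟨i, φ, hi⟩ := exists_range_subset hc haff _ hd
  refine ⟨i, φ, fun j g => ?_⟩
  haveI := hoi j i₀ (g ≫ φ)
  have hp : D.map (g ≫ φ) (c.π.app j η) = s := by
    rw [← Scheme.Hom.comp_apply, c.w]; rfl
  refine irreducibleSpace_of_isInducing (D.map (g ≫ φ)).isOpenEmbedding.isInducing (c.π.app j η) ?_
  rw [hp]
  rintro _ ⟨y, rfl⟩
  by_contra hy
  refine hi ⟨D.map g y, rfl⟩ ⟨_, ⟨irreducibleComponent_mem_irreducibleComponents (D.map (g ≫ φ) y), fun he => hy ?_⟩,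
    by rw [D.map_comp]; exact mem_irreducibleComponent⟩
  exact he ▸ mem_irreducibleComponent

/-- The limit is irreducible if a stage is integral, provided every stage above is nonempty. -/
theorem irreducibleSpace_pt (hc : IsLimit c) (haff : ∀ (i j : I) (f : i ⟶ j), IsAffineHom (D.map f))
    (hoi : ∀ (i j : I) (φ : i ⟶ j), IsOpenImmersion (D.map φ)) (i : I) [IrreducibleSpace (D.obj i)]
    (hne : ∀ (j : I) (_ : j ⟶ i), Nonempty (D.obj j)) : IrreducibleSpace c.pt := by
  haveI := haff
  obtain ⟨hemb, -⟩ := S4785.result D c hc hoi i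
  have hη : genericPoint (D.obj i) ∈ Set.range (c.π.app i) := by
    rw [S4784.result D c hc i]
    refine Set.mem_iInter₂.2 fun j φ => ?_
    haveI := hoi j i φ
    haveI := hne j φ
    exact ((genericPoint_spec (D.obj i)).mem_open_set_iff (D.map φ).isOpenEmbedding.isOpen_range).2
      (by rw [Set.univ_inter]; exact Set.range_nonempty _)
  obtain ⟨p, hp⟩ := hη
  refine irreducibleSpace_of_isInducing hemb.isInducing p ?_
  rw [hp, (genericPoint_spec (D.obj i)).def]
  exact Set.subset_univ _

end Groth.Agent.Lim17
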